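import Mathlib

/-!
Filtered systems of algebras given only by a cone which is jointly surjective and whose kernels die
under compatible maps; tensor products commute with them.
-/

namespace Groth.Agent.AlgSysLib

open TensorProduct

universe u

variable {R : Type u} [CommRing R] {ι : Type u} {G : ι → Type u} [∀ i, CommRing (G i)] [∀ i, Algebra R (G i)]
  {A : Type u} [CommRing A] [Algebra R A]

/-- A cone of algebras behaving like a filtered colimit. -/
structure IsAlgSys (g : ∀ i, G i →ₐ[R] A) : Prop where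
  ne : Nonempty ι
  dir : ∀ i j, ∃ k, ∃ φ : G i →ₐ[R] G k, ∃ ψ : G j →ₐ[R] G k, (g k).comp φ = g i ∧ (g k).comp ψ = g j
  surj : ∀ a, ∃ i, ∃ x, g i x = a
  ker : ∀ i x, g i x = 0 → ∃ j, ∃ φ : G i →ₐ[R] G j, (g j).comp φ = g i ∧ φ x = 0

theorem isAlgSys_of_preorder [Preorder ι] [IsDirected ι (· ≤ ·)] [Nonempty ι]
    {f : ∀ i j, i ≤ j → (G i →ₐ[R] G j)} {g : ∀ i, G i →ₐ[R] A}
    (hg : ∀ i j (h : i ≤ j), (g j).comp (f i j h) = g i) (hsurj : ∀ a : A, ∃ i, ∃ x : G i, g i x = a)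
    (hker : ∀ i (x : G i), g i x = 0 → ∃ j, ∃ h : i ≤ j, f i j h x = 0) : IsAlgSys g where
  ne := inferInstance
  dir i j := by
    obtain ⟨k, hi, hj⟩ := directed_of (· ≤ ·) i j
    exact ⟨k, f i k hi, f j k hj, hg _ _ _, hg _ _ _⟩
  surj := hsurj
  ker i x hx := by
    obtain ⟨j, h, hj⟩ := hker i x hx
    exact ⟨j, f i j h, hg _ _ _, hj⟩

namespace IsAlgSys

variable {g : ∀ i, G i →ₐ[R] A} (hS : IsAlgSys g)
include hS

theorem kill_finset (i : ι) (T : Finset (G i)) (hT : ∀ x ∈ T, g i x = 0) :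
    ∃ j, ∃ φ : G i →ₐ[R] G j, (g j).comp φ = g i ∧ ∀ x ∈ T, φ x = 0 := by
  classical
  induction T using Finset.induction_on with
  | empty =>
    obtain ⟨k, φ, _, hφ, _⟩ := hS.dir i i
    exact ⟨k, φ, hφ, by simp⟩
  | @insert a T _ ih =>
    obtain ⟨j, φ, hφ, hT'⟩ := ih fun x hx => hT x (Finset.mem_insert_of_mem hx)
    obtain ⟨k, ψ, hψ, h0⟩ := hS.ker j (φ a) (by rw [← AlgHom.comp_apply, hφ]; exact hT a (Finset.mem_insert_self _ _))
    refine ⟨k, ψ.comp φ, by rw [← AlgHom.comp_assoc, hψ, hφ], fun x hx => ?_⟩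
    rcases Finset.mem_insert.mp hx with rfl | hx
    · exact h0
    · rw [AlgHom.comp_apply, hT' x hx, map_zero]

theorem exists_lTensor {X : Type u} [AddCommGroup X] [Module R X] (t : X ⊗[R] A) :
    ∃ i, ∃ x : X ⊗[R] G i, (g i).toLinearMap.lTensor X x = t := by
  induction t using TensorProduct.induction_on with
  | zero => exact ⟨hS.ne.some, 0, map_zero _⟩
  | tmul x a =>
    obtain ⟨i, b, rfl⟩ := hS.surj a
    exact ⟨i, x ⊗ₜ b, rfl⟩
  | add s t hs ht =>
    obtain ⟨i, a, rfl⟩ := hs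
    obtain ⟨j, b, rfl⟩ := ht
    obtain ⟨k, φ, ψ, hφ, hψ⟩ := hS.dir i j
    refine ⟨k, φ.toLinearMap.lTensor X a + ψ.toLinearMap.lTensor X b, ?_⟩
    rw [map_add, ← LinearMap.lTensor_comp_apply, ← LinearMap.lTensor_comp_apply, ← AlgHom.comp_toLinearMap, hφ,
      ← AlgHom.comp_toLinearMap, hψ]

theorem exists_kill_lTensor {X : Type u} [AddCommGroup X] [Module R X] (i : ι) (z : X ⊗[R] G i)
    (hz : (g i).toLinearMap.lTensor X z = 0) :
    ∃ j, ∃ φ : G i →ₐ[R] G j, (g j).comp φ = g i ∧ φ.toLinearMap.lTensor X z = 0 := by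
  classical
  obtain ⟨F, _, _, q, hq, ⟨b⟩⟩ : ∃ (F : Type u) (_ : AddCommGroup F) (_ : Module R F) (q : F →ₗ[R] X),
      Function.Surjective q ∧ Nonempty (F ≃ₗ[R] (X →₀ R)) :=
    ⟨X →₀ R, inferInstance, inferInstance, Finsupp.linearCombination R id, fun x => ⟨Finsupp.single x 1, by simp⟩, ⟨LinearEquiv.refl R _⟩⟩
  have hex := q.exact_subtype_ker_map
  obtain ⟨w, rfl⟩ := LinearMap.rTensor_surjective (G i) hq z
  have hw : (g i).toLinearMap.lTensor F w ∈ LinearMap.range ((LinearMap.ker q).subtype.rTensor A) := by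
    refine (rTensor_exact A hex hq _).mp ?_
    rw [← LinearMap.comp_apply, LinearMap.rTensor_comp_lTensor, ← LinearMap.lTensor_comp_rTensor, LinearMap.comp_apply]
    exact hz
  obtain ⟨w₀, hw₀⟩ := hw
  obtain ⟨j, w', rfl⟩ := hS.exists_lTensor w₀
  obtain ⟨k, φ, ψ, hφ, hψ⟩ := hS.dir i j
  let v : F ⊗[R] G k := φ.toLinearMap.lTensor _ w - (LinearMap.ker q).subtype.rTensor (G k) (ψ.toLinearMap.lTensor _ w')
  have hv : (g k).toLinearMap.lTensor _ v = 0 := by
    rw [map_sub, ← LinearMap.lTensor_comp_apply, ← AlgHom.comp_toLinearMap, hφ, ← hw₀, sub_eq_zero,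
      ← LinearMap.comp_apply ((g k).toLinearMap.lTensor _), LinearMap.lTensor_comp_rTensor, ← LinearMap.rTensor_comp_lTensor,
      LinearMap.comp_apply, ← LinearMap.lTensor_comp_apply, ← AlgHom.comp_toLinearMap, hψ]
  let c : ∀ (B : Type u) [AddCommGroup B] [Module R B], F ⊗[R] B ≃ₗ[R] (X →₀ B) := fun B _ _ =>
    (TensorProduct.congr b (LinearEquiv.refl R B)).trans (TensorProduct.finsuppScalarLeft R B X)
  have hcoord : ∀ (k' : ι) (u : F ⊗[R] G k) (θ : G k →ₗ[R] G k') (x : X),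
      c (G k') (θ.lTensor _ u) x = θ (c (G k) u x) := by
    intro k' u θ x
    induction u using TensorProduct.induction_on with
    | zero => simp
    | tmul a b => simp [c, TensorProduct.finsuppScalarLeft_apply_tmul_apply]
    | add a b ha hb => simp only [map_add, Finsupp.add_apply, ha, hb]
  have hcoordA : ∀ (x : X), g k (c (G k) v x) = 0 := fun x => by
    have h : ∀ u : F ⊗[R] G k, c A ((g k).toLinearMap.lTensor _ u) x =
        g k (c (G k) u x) := fun u => by
      induction u using TensorProduct.induction_on with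
      | zero => simp
      | tmul a b => simp [c, TensorProduct.finsuppScalarLeft_apply_tmul_apply]
      | add a b ha hb => simp only [map_add, Finsupp.add_apply, ha, hb]
    rw [← h, hv, map_zero]; rfl
  let e := c (G k)
  obtain ⟨l, θ, hθ, hθ0⟩ := hS.kill_finset k ((e v).support.image (e v)) (by
    intro y hy
    obtain ⟨x, -, rfl⟩ := Finset.mem_image.mp hy
    exact hcoordA x)
  have hv0 : θ.toLinearMap.lTensor _ v = 0 := by
    apply (c (G l)).injective
    ext x
    rw [hcoord l v θ.toLinearMap x, map_zero, Finsupp.zero_apply]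
    by_cases hx : x ∈ (e v).support
    · exact hθ0 _ (Finset.mem_image_of_mem _ hx)
    · rw [show e v x = 0 from Finsupp.notMem_support_iff.mp hx, map_zero]
  refine ⟨l, θ.comp φ, by rw [← AlgHom.comp_assoc, hθ, hφ], ?_⟩
  have h := congrArg (q.rTensor (G l)) hv0
  rw [map_zero, map_sub, map_sub] at h
  have hz0 : q.rTensor (G l) (θ.toLinearMap.lTensor _ ((LinearMap.ker q).subtype.rTensor (G k) (ψ.toLinearMap.lTensor _ w'))) = 0 := by
    rw [← LinearMap.comp_apply (q.rTensor (G l)), LinearMap.rTensor_comp_lTensor, ← LinearMap.lTensor_comp_rTensor, LinearMap.comp_apply,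
      ← LinearMap.rTensor_comp_apply, LinearMap.comp_ker_subtype, LinearMap.rTensor_zero, LinearMap.zero_apply, map_zero]
  rw [hz0, sub_zero, ← LinearMap.lTensor_comp_apply, ← AlgHom.comp_toLinearMap, ← LinearMap.comp_apply (q.rTensor (G l)),
    LinearMap.rTensor_comp_lTensor, ← LinearMap.lTensor_comp_rTensor, LinearMap.comp_apply] at h
  exact h

theorem exists_kill_rTensor {X : Type u} [AddCommGroup X] [Module R X] (i : ι) (z : G i ⊗[R] X)
    (hz : (g i).toLinearMap.rTensor X z = 0) :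
    ∃ j, ∃ φ : G i →ₐ[R] G j, (g j).comp φ = g i ∧ φ.toLinearMap.rTensor X z = 0 := by
  have hc : ∀ (B : Type u) [AddCommGroup B] [Module R B] (φ : G i →ₗ[R] B) (u : G i ⊗[R] X),
      φ.lTensor X (TensorProduct.comm R _ X u) = TensorProduct.comm R B X (φ.rTensor X u) := fun B _ _ φ u => by
    induction u using TensorProduct.induction_on with
    | zero => simp
    | tmul a b => simp
    | add a b ha hb => simp only [map_add, ha, hb]
  obtain ⟨j, φ, hφ, h⟩ := hS.exists_kill_lTensor i (TensorProduct.comm R _ X z) (by rw [hc, hz, map_zero])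
  exact ⟨j, φ, hφ, (TensorProduct.comm R (G j) X).injective (by rw [map_zero, ← hc, h])⟩

theorem exists_kill_finset_rTensor {X : Type u} [AddCommGroup X] [Module R X] (i : ι) (T : Finset (G i ⊗[R] X))
    (hT : ∀ z ∈ T, (g i).toLinearMap.rTensor X z = 0) :
    ∃ j, ∃ φ : G i →ₐ[R] G j, (g j).comp φ = g i ∧ ∀ z ∈ T, φ.toLinearMap.rTensor X z = 0 := by
  classical
  induction T using Finset.induction_on with
  | empty =>
    obtain ⟨k, φ, _, hφ, _⟩ := hS.dir i i
    exact ⟨k, φ, hφ, by simp⟩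
  | @insert a T _ ih =>
    obtain ⟨j, φ, hφ, hT'⟩ := ih fun x hx => hT x (Finset.mem_insert_of_mem hx)
    obtain ⟨k, ψ, hψ, h0⟩ := hS.exists_kill_rTensor j (φ.toLinearMap.rTensor X a)
      (by rw [← LinearMap.rTensor_comp_apply, ← AlgHom.comp_toLinearMap, hφ]; exact hT a (Finset.mem_insert_self _ _))
    refine ⟨k, ψ.comp φ, by rw [← AlgHom.comp_assoc, hψ, hφ], fun x hx => ?_⟩
    rw [AlgHom.comp_toLinearMap, LinearMap.rTensor_comp_apply]
    rcases Finset.mem_insert.mp hx with rfl | hx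
    · exact h0
    · rw [hT' x hx, map_zero]

theorem exists_lift_fin {n : ℕ} (a : Fin n → A) : ∃ i, ∃ x : Fin n → G i, ∀ k, g i (x k) = a k := by
  induction n with
  | zero => exact ⟨hS.ne.some, Fin.elim0, fun k => k.elim0⟩
  | succ n ih =>
    obtain ⟨i, x, hx⟩ := ih (a ∘ Fin.succ)
    obtain ⟨j, y, hy⟩ := hS.surj (a 0)
    obtain ⟨k, φ, ψ, hφ, hψ⟩ := hS.dir i j
    refine ⟨k, Fin.cons (ψ y) (φ ∘ x), fun l => Fin.cases ?_ (fun l => ?_) l⟩
    · rw [Fin.cons_zero, ← AlgHom.comp_apply, hψ, hy]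
    · rw [Fin.cons_succ, Function.comp_apply, ← AlgHom.comp_apply, hφ]; exact hx l

/-- Base change along an algebra. -/
theorem baseChange (B : Type u) [CommRing B] [Algebra R B] :
    IsAlgSys (R := B) (G := fun i => B ⊗[R] G i) (A := B ⊗[R] A)
      (fun i => Algebra.TensorProduct.map (AlgHom.id B B) (g i)) where
  ne := hS.ne
  dir i j := by
    obtain ⟨k, φ, ψ, hφ, hψ⟩ := hS.dir i j
    refine ⟨k, Algebra.TensorProduct.map (AlgHom.id B B) φ, Algebra.TensorProduct.map (AlgHom.id B B) ψ, ?_, ?_⟩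
    · rw [← Algebra.TensorProduct.map_comp, hφ, AlgHom.id_comp]
    · rw [← Algebra.TensorProduct.map_comp, hψ, AlgHom.id_comp]
  surj t := by
    obtain ⟨i, x, hx⟩ := hS.exists_lTensor t
    exact ⟨i, x, hx⟩
  ker i x hx := by
    obtain ⟨j, φ, hφ, h⟩ := hS.exists_kill_lTensor i x hx
    exact ⟨j, Algebra.TensorProduct.map (AlgHom.id B B) φ, by rw [← Algebra.TensorProduct.map_comp, hφ, AlgHom.id_comp], h⟩

end IsAlgSys

end Groth.Agent.AlgSysLib
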