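import Mathlib
import Groth.Agent.AlgSysLib.Basic

/-!
Smoothness and étaleness of a base change of a finitely presented algebra descend to a stage of a filtered system.
-/

set_option autoImplicit false

namespace Groth.Agent.AlgSysLib

open TensorProduct MvPolynomial

universe u

/-- Polynomials witnessing a section of `R[x]/I² → R[x]/I`, for a finite presentation. -/
theorem formallySmooth_iff_exists_lift {B C : Type u} [CommRing B] [CommRing C] [Algebra B C] {n m : ℕ}
    (P : Algebra.Presentation B C (Fin n) (Fin m)) :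
    Algebra.FormallySmooth B C ↔ ∃ q : Fin n → MvPolynomial (Fin n) B, ∃ c : Fin n → Fin m → MvPolynomial (Fin n) B,
      ∃ d : Fin m → Fin m × Fin m → MvPolynomial (Fin n) B,
        (∀ k, q k - X k = ∑ j, c k j * P.relation j) ∧
        ∀ j, aeval q (P.relation j) = ∑ ab, d j ab * (P.relation ab.1 * P.relation ab.2) := by
  classical
  let π : MvPolynomial (Fin n) B →ₐ[B] C := aeval P.val
  have hπ : Function.Surjective π := fun x => ⟨P.σ x, P.aeval_val_σ x⟩
  have hker : RingHom.ker π.toRingHom = Ideal.span (Set.range P.relation) := by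
    rw [P.span_range_relation_eq_ker, P.ker_eq_ker_aeval_val]; rfl
  have hsq : RingHom.ker π.toRingHom ^ 2 = Ideal.span (Set.range fun ab : Fin m × Fin m => P.relation ab.1 * P.relation ab.2) := by
    rw [hker, pow_two, Ideal.span_mul_span']
    congr 1
    ext x
    simp [Set.mem_mul]
  rw [Algebra.FormallySmooth.iff_split_surjection π hπ]
  let mk := Ideal.Quotient.mkₐ B (RingHom.ker π.toRingHom ^ 2)
  have hkl : ∀ y, π.kerSquareLift (mk y) = π y := fun y => rfl
  constructor
  · rintro ⟨g, hg⟩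
    choose q hq using fun k => Ideal.Quotient.mk_surjective (g (π (X k)))
    have hgq : g.comp π = mk.comp (aeval q) := MvPolynomial.algHom_ext fun k => by
      show g (π (X k)) = mk (aeval q (X k))
      rw [aeval_X q k]
      exact (hq k).symm
    have h1 : ∀ k, q k - X k ∈ Ideal.span (Set.range P.relation) := fun k => by
      rw [← hker, RingHom.mem_ker]
      show π (q k - X k) = 0
      rw [map_sub, sub_eq_zero, ← hkl (q k), show mk (q k) = g (π (X k)) from hq k]
      exact AlgHom.congr_fun hg _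
    have h2 : ∀ j, aeval q (P.relation j) ∈ Ideal.span (Set.range fun ab : Fin m × Fin m => P.relation ab.1 * P.relation ab.2) := fun j => by
      rw [← hsq, ← Ideal.Quotient.eq_zero_iff_mem]
      refine ((AlgHom.congr_fun hgq (P.relation j)).symm.trans ?_)
      rw [AlgHom.comp_apply, show π (P.relation j) = 0 from P.aeval_val_relation j, map_zero]
    choose c hc using fun k => Ideal.mem_span_range_iff_exists_fun.mp (h1 k)
    choose d hd using fun j => Ideal.mem_span_range_iff_exists_fun.mp (h2 j)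
    exact ⟨q, c, d, fun k => (hc k).symm, fun j => (hd j).symm⟩
  · rintro ⟨q, c, d, hc, hd⟩
    have hle : RingHom.ker π.toRingHom ≤ RingHom.ker (mk.comp (aeval q)).toRingHom := by
      refine hker.trans_le ?_
      rw [Ideal.span_le]
      rintro _ ⟨j, rfl⟩
      show mk (aeval q (P.relation j)) = 0
      refine Ideal.Quotient.eq_zero_iff_mem.mpr ?_
      rw [hd j, hsq]
      exact Ideal.sum_mem _ fun ab _ => Ideal.mul_mem_left _ _ (Ideal.subset_span (Set.mem_range_self ab))
    let L : (MvPolynomial (Fin n) B ⧸ RingHom.ker π.toRingHom) →ₐ[B] MvPolynomial (Fin n) B ⧸ RingHom.ker π.toRingHom ^ 2 :=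
      Ideal.Quotient.liftₐ (RingHom.ker π.toRingHom) (mk.comp (aeval q)) fun p hp => hle hp
    let g : C →ₐ[B] MvPolynomial (Fin n) B ⧸ RingHom.ker π.toRingHom ^ 2 :=
      L.comp
        (Ideal.quotientKerAlgEquivOfSurjective hπ).symm.toAlgHom
    refine ⟨g, AlgHom.ext fun z => ?_⟩
    obtain ⟨y, rfl⟩ := hπ z
    have hg : g (π y) = mk (aeval q y) := by
      show L ((Ideal.quotientKerAlgEquivOfSurjective hπ).symm (π y)) = _
      rw [show (Ideal.quotientKerAlgEquivOfSurjective hπ).symm (π y) = Ideal.Quotient.mk _ y from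
        (AlgEquiv.symm_apply_eq _).mpr rfl]
      rfl
    rw [AlgHom.comp_apply, hg, hkl, AlgHom.id_apply]
    have : π.comp (aeval q) = π := MvPolynomial.algHom_ext fun k => by
      rw [AlgHom.comp_apply, aeval_X, ← sub_eq_zero, ← map_sub, hc k, map_sum]
      exact Finset.sum_eq_zero fun j _ => by
        rw [map_mul, show π (P.relation j) = 0 from P.aeval_val_relation j, mul_zero]
    exact AlgHom.congr_fun this y

namespace IsAlgSys

variable {R : Type u} [CommRing R] {ι : Type u} {G : ι → Type u} [∀ i, CommRing (G i)] [∀ i, Algebra R (G i)]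
  {A : Type u} [CommRing A] [Algebra R A] {g : ∀ i, G i →ₐ[R] A} (hS : IsAlgSys g)
include hS

theorem mvPolynomial (σ : Type u) : IsAlgSys (G := fun i => MvPolynomial σ (G i)) (A := MvPolynomial σ A)
    (fun i => mapAlgHom (g i)) where
  ne := hS.ne
  dir i j := by
    obtain ⟨k, φ, ψ, hφ, hψ⟩ := hS.dir i j
    refine ⟨k, mapAlgHom φ, mapAlgHom ψ, AlgHom.ext fun x => ?_, AlgHom.ext fun x => ?_⟩
    · simp only [AlgHom.comp_apply, mapAlgHom_apply, MvPolynomial.map_map, ← AlgHom.comp_toRingHom, hφ]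
    · simp only [AlgHom.comp_apply, mapAlgHom_apply, MvPolynomial.map_map, ← AlgHom.comp_toRingHom, hψ]
  surj p := by
    induction p using MvPolynomial.induction_on' with
    | monomial s a =>
      obtain ⟨i, x, rfl⟩ := hS.surj a
      exact ⟨i, monomial s x, map_monomial _ _ _⟩
    | add p q hp hq =>
      obtain ⟨i, x, rfl⟩ := hp
      obtain ⟨j, y, rfl⟩ := hq
      obtain ⟨k, φ, ψ, hφ, hψ⟩ := hS.dir i j
      refine ⟨k, mapAlgHom φ x + mapAlgHom ψ y, ?_⟩
      simp only [map_add, mapAlgHom_apply, MvPolynomial.map_map, ← AlgHom.comp_toRingHom, hφ, hψ]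
  ker i x hx := by
    classical
    obtain ⟨j, φ, hφ, h⟩ := hS.kill_finset i (x.support.image fun s => x.coeff s) fun a ha => by
      obtain ⟨s, -, rfl⟩ := Finset.mem_image.mp ha
      rw [← AlgHom.coe_toRingHom, ← coeff_map]
      exact (congrArg (coeff s) hx).trans (coeff_zero s)
    refine ⟨j, mapAlgHom φ, AlgHom.ext fun y => ?_, MvPolynomial.ext _ _ fun s => ?_⟩
    · simp only [AlgHom.comp_apply, mapAlgHom_apply, MvPolynomial.map_map, ← AlgHom.comp_toRingHom, hφ]
    · rw [mapAlgHom_apply, coeff_map, coeff_zero]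
      by_cases hs : s ∈ x.support
      · exact h _ (Finset.mem_image_of_mem _ hs)
      · rw [notMem_support_iff.mp hs, map_zero]

theorem exists_lift_fintype {κ : Type*} [Finite κ] (a : κ → A) : ∃ i, ∃ x : κ → G i, ∀ k, g i (x k) = a k := by
  obtain ⟨e⟩ := Finite.exists_equiv_fin κ |>.choose_spec
  obtain ⟨i, x, hx⟩ := hS.exists_lift_fin (a ∘ e.symm)
  exact ⟨i, x ∘ e, fun k => by rw [Function.comp_apply, hx, Function.comp_apply, e.symm_apply_apply]⟩

theorem exists_formallySmooth_baseChange {C : Type u} [CommRing C] [Algebra R C] [Algebra.FinitePresentation R C]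
    (h : Algebra.FormallySmooth A (A ⊗[R] C)) :
    ∃ i₀, ∀ i (φ : G i₀ →ₐ[R] G i), (g i).comp φ = g i₀ → ∃ j, ∃ ψ : G i →ₐ[R] G j, (g j).comp ψ = g i ∧
      Algebra.FormallySmooth (G j) (G j ⊗[R] C) := by
  classical
  obtain ⟨n, m, ⟨P⟩⟩ : ∃ n m, Nonempty (Algebra.Presentation R C (Fin n) (Fin m)) :=
    ⟨_, _, ⟨Algebra.Presentation.ofFinitePresentation R C⟩⟩
  obtain ⟨q, c, d, hc, hd⟩ := (formallySmooth_iff_exists_lift (P.baseChange A)).mp h
  have hP := hS.mvPolynomial (ULift.{u} (Fin n))
  -- work with polynomial variables `Fin n`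
  have hlift : ∀ {κ : Type} [Finite κ] (a : κ → MvPolynomial (Fin n) A), ∃ i, ∃ x : κ → MvPolynomial (Fin n) (G i),
      ∀ k, map (g i).toRingHom (x k) = a k := by
    intro κ _ a
    obtain ⟨i, x, hx⟩ := hP.exists_lift_fintype fun k => rename ULift.up (a k)
    refine ⟨i, fun k => rename ULift.down (x k), fun k => ?_⟩
    rw [map_rename]
    have := congrArg (rename ULift.down) (hx k)
    rw [rename_rename] at this
    exact this.trans (rename_id_apply _)
  obtain ⟨i₀, x, hx⟩ := hlift (Sum.elim (Sum.elim q fun kj : Fin n × Fin m => c kj.1 kj.2)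
    fun jab : Fin m × (Fin m × Fin m) => d jab.1 jab.2)
  refine ⟨i₀, fun i φ hφ => ?_⟩
  let r : ∀ j, Fin m → MvPolynomial (Fin n) (G j) := fun j l => map (algebraMap R (G j)) (P.relation l)
  let x' := fun k => map φ.toRingHom (x k)
  have hx' : ∀ k, map (g i).toRingHom (x' k) =
      Sum.elim (Sum.elim q fun kj : Fin n × Fin m => c kj.1 kj.2) (fun jab : Fin m × (Fin m × Fin m) => d jab.1 jab.2) k := fun k => by
    show map (g i).toRingHom (map φ.toRingHom (x k)) = _
    rw [MvPolynomial.map_map, show (g i).toRingHom.comp φ.toRingHom = (g i₀).toRingHom from congrArg AlgHom.toRingHom hφ]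
    exact hx k
  let T : Finset (MvPolynomial (Fin n) (G i)) :=
    (Finset.univ.image fun k => x' (.inl (.inl k)) - X k - ∑ l, x' (.inl (.inr (k, l))) * r i l) ∪
    (Finset.univ.image fun j => aeval (fun k => x' (.inl (.inl k))) (r i j) - ∑ ab, x' (.inr (j, ab)) * (r i ab.1 * r i ab.2))
  have hr : ∀ {j₁ j₂ : ι} (ψ : G j₁ →ₐ[R] G j₂) (l : Fin m), map ψ.toRingHom (r j₁ l) = r j₂ l := fun ψ l => by
    show map ψ.toRingHom (MvPolynomial.map (algebraMap R (G _)) (P.relation l)) = MvPolynomial.map (algebraMap R (G _)) (P.relation l)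
    rw [MvPolynomial.map_map, show ψ.toRingHom.comp (algebraMap R _) = algebraMap R _ from ψ.comp_algebraMap]
  have hrA : ∀ l, map (g i).toRingHom (r i l) = (P.baseChange A).relation l := fun l => by
    show map (g i).toRingHom (map (algebraMap R _) _) = _
    rw [MvPolynomial.map_map, show (g i).toRingHom.comp (algebraMap R _) = algebraMap R _ from (g i).comp_algebraMap]
    rfl
  have hae : ∀ {B B' : Type u} [CommRing B] [CommRing B'] (f : B →+* B') (v : Fin n → MvPolynomial (Fin n) B)
      (p : MvPolynomial (Fin n) B), map f (aeval v p) = aeval (fun k => map f (v k)) (map f p) := fun f v p => by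
    induction p using MvPolynomial.induction_on with
    | C a => simp
    | add a b ha hb => simp only [map_add, ha, hb]
    | mul_X a k ha => simp only [map_mul, aeval_X, map_X, ha]
  have hT : ∀ p ∈ T, map (g i).toRingHom p = 0 := by
    intro p hp
    rcases Finset.mem_union.mp hp with hp | hp <;> obtain ⟨k, -, rfl⟩ := Finset.mem_image.mp hp
    · simp only [map_sub, map_sum, map_mul, map_X, hrA, hx', Sum.elim_inl, Sum.elim_inr, hc, sub_self]
    · simp only [map_sub, map_sum, map_mul, hae, hrA, hx', Sum.elim_inl, Sum.elim_inr, hd, sub_self]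
  obtain ⟨j, ψ, hψ, hj⟩ := hS.kill_finset i (T.biUnion fun p => p.support.image fun s => p.coeff s) fun a ha => by
    obtain ⟨p, hp, ha⟩ := Finset.mem_biUnion.mp ha
    obtain ⟨s, -, rfl⟩ := Finset.mem_image.mp ha
    rw [← AlgHom.coe_toRingHom, ← coeff_map]
    exact (congrArg (coeff s) (hT p hp)).trans (coeff_zero s)
  have hzero : ∀ p ∈ T, map ψ.toRingHom p = 0 := fun p hp => MvPolynomial.ext _ _ fun s => by
    rw [coeff_map, coeff_zero]
    by_cases hs : s ∈ p.support
    · exact hj _ (Finset.mem_biUnion.mpr ⟨p, hp, Finset.mem_image_of_mem _ hs⟩)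
    · rw [notMem_support_iff.mp hs, map_zero]
  refine ⟨j, ψ, hψ, (formallySmooth_iff_exists_lift (P.baseChange (G j))).mpr
    ⟨fun k => map ψ.toRingHom (x' (.inl (.inl k))), fun k l => map ψ.toRingHom (x' (.inl (.inr (k, l)))),
      fun l ab => map ψ.toRingHom (x' (.inr (l, ab))), fun k => ?_, fun l => ?_⟩⟩
  · have := hzero _ (Finset.mem_union_left _ (Finset.mem_image_of_mem _ (Finset.mem_univ k)))
    simp only [map_sub, map_sum, map_mul, map_X, hr, sub_eq_zero] at this
    exact this
  · have := hzero _ (Finset.mem_union_right _ (Finset.mem_image_of_mem _ (Finset.mem_univ l)))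
    simp only [map_sub, map_sum, map_mul, hae, hr, sub_eq_zero] at this
    exact this

theorem exists_smooth_baseChange {C : Type u} [CommRing C] [Algebra R C] [Algebra.FinitePresentation R C]
    (h : Algebra.Smooth A (A ⊗[R] C)) : ∃ i, Algebra.Smooth (G i) (G i ⊗[R] C) := by
  obtain ⟨i₀, h₀⟩ := hS.exists_formallySmooth_baseChange h.formallySmooth
  obtain ⟨j, -, -, hj⟩ := h₀ i₀ (AlgHom.id R _) (AlgHom.comp_id _)
  exact ⟨j, ⟨hj, inferInstance⟩⟩

theorem exists_etale_baseChange {C : Type u} [CommRing C] [Algebra R C] [Algebra.FinitePresentation R C]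
    (h : Algebra.Etale A (A ⊗[R] C)) : ∃ i, Algebra.Etale (G i) (G i ⊗[R] C) := by
  classical
  obtain ⟨i₀, h₀⟩ := hS.exists_formallySmooth_baseChange (inferInstance : Algebra.FormallySmooth A (A ⊗[R] C))
  letI : ∀ (S : Type u) [CommRing S] [Algebra R S], Algebra C (S ⊗[R] C) := fun S _ _ => Algebra.TensorProduct.rightAlgebra
  have hA : Subsingleton (A ⊗[R] Ω[C⁄R]) :=
    (KaehlerDifferential.tensorKaehlerEquivBase R A C (A ⊗[R] C)).toEquiv.subsingleton
  obtain ⟨T, hT⟩ := (Module.finite_def.mp (inferInstance : Module.Finite C Ω[C⁄R]))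
  obtain ⟨i, φ, hφ, hi⟩ := hS.exists_kill_finset_rTensor (X := Ω[C⁄R]) i₀ (T.image fun ω => (1 : G i₀) ⊗ₜ[R] ω)
    (fun z _ => Subsingleton.elim _ _)
  obtain ⟨j, ψ, hψ, hj⟩ := h₀ i φ hφ
  have hker : ∀ ω : Ω[C⁄R], (1 : G j) ⊗ₜ[R] ω = 0 := by
    intro ω
    have hω : ω ∈ Submodule.span C (T : Set Ω[C⁄R]) := hT ▸ Submodule.mem_top
    induction hω using Submodule.span_induction with
    | mem ω hω =>
      have := congrArg (ψ.toLinearMap.rTensor Ω[C⁄R]) (hi _ (Finset.mem_image_of_mem _ hω))
      simpa using this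
    | zero => exact tmul_zero _ _
    | add a b _ _ ha hb => rw [tmul_add, ha, hb, add_zero]
    | smul c a _ ha =>
      have := congrArg ((LinearMap.lsmul C Ω[C⁄R] c |>.restrictScalars R).lTensor (G j)) ha
      simpa using this
  haveI : Subsingleton (G j ⊗[R] Ω[C⁄R]) := ⟨fun a b => by
    suffices ∀ z : G j ⊗[R] Ω[C⁄R], z = 0 by rw [this a, this b]
    intro z
    induction z using TensorProduct.induction_on with
    | zero => rfl
    | tmul a ω => rw [← mul_one a, ← smul_eq_mul, ← smul_tmul', hker, smul_zero]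
    | add a b ha hb => rw [ha, hb, add_zero]⟩
  haveI : Algebra.FormallyUnramified (G j) (G j ⊗[R] C) :=
    ⟨(KaehlerDifferential.tensorKaehlerEquivBase R (G j) C (G j ⊗[R] C)).symm.toEquiv.subsingleton⟩
  haveI := hj
  exact ⟨j, Algebra.Etale.iff_formallyUnramified_and_smooth.mpr ⟨inferInstance, ⟨hj, inferInstance⟩⟩⟩

end IsAlgSys

end Groth.Agent.AlgSysLib
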