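import Groth.Agent.AlgSysLib.Basic
import Groth.Agent.FlatStage.Syntomic
import Groth.Agent.FPModelLib.ZSys
import Mathlib

/-!
Syntomic base changes descend to a stage of a system of algebras.
-/

set_option autoImplicit false

set_option backward.isDefEq.respectTransparency false
set_option backward.defeqAttrib.useBackward true
set_option linter.style.haveILetI false

universe u

open CategoryTheory CategoryTheory.Limits AlgebraicGeometry Opposite TensorProduct MvPolynomial

noncomputable section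

namespace Groth.Agent.AlgSysLib

variable {R : Type u} [CommRing R]

/-- The presentation is syntomic. -/
def IsSyntPres (B : Type u) [CommRing B] {n c : ℕ} (F : Fin c → MvPolynomial (Fin n) B) : Prop :=
  Synt.IsSyntomic B (Synt.RelGCIRing B n c F)

/-- Syntomic presentations over a filtered colimit of rings come from a stage. -/
theorem exists_stage_isSyntPres {J : Type u} [SmallCategory J] [IsFiltered J] (Φ : J ⥤ CommRingCat.{u})
    (co : Cocone Φ) (hco : IsColimit co) (j₀ : J) {n c : ℕ} (F₁ : Fin c → MvPolynomial (Fin n) (Φ.obj j₀))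
    (h : IsSyntPres co.pt fun l => MvPolynomial.map (co.ι.app j₀).hom (F₁ l)) :
    ∃ (j : J) (φ : j₀ ⟶ j), IsSyntPres (Φ.obj j) fun l => MvPolynomial.map (Φ.map φ).hom (F₁ l) := by
  let D : Jᵒᵖ ⥤ Scheme.{u} := Φ.op ⋙ Scheme.Spec
  let cD : Cone D := Scheme.Spec.mapCone co.op
  have hD : IsLimit cD := isLimitOfPreserves Scheme.Spec hco.op
  haveI : ∀ {i j : Jᵒᵖ} (φ : i ⟶ j), IsAffineHom (D.map φ) := fun _ => inferInstanceAs (IsAffineHom (Spec.map _))
  let S₀ : CommRingCat.{u} := Φ.obj j₀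
  let R1 : Type u := Synt.RelGCIRing S₀ n c F₁
  haveI : Algebra.FinitePresentation S₀ R1 :=
    Algebra.FinitePresentation.quotient (Submodule.fg_span (Set.finite_range F₁))
  let f₀ : Spec (CommRingCat.of R1) ⟶ D.obj (op j₀) := Spec.map (CommRingCat.ofHom (algebraMap S₀ R1))
  haveI : LocallyOfFinitePresentation f₀ :=
    (HasRingHomProperty.Spec_iff (P := @LocallyOfFinitePresentation)).2
      (show (algebraMap S₀ R1).FinitePresentation from
        (RingHom.finitePresentation_algebraMap (A := S₀) (B := R1)).2 inferInstance)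
  let A : CommRingCat.{u} := co.pt
  letI : Algebra S₀ A := (co.ι.app j₀).hom.toAlgebra
  let f : Spec (CommRingCat.of (A ⊗[S₀] R1)) ⟶ Spec A :=
    Spec.map (CommRingCat.ofHom (algebraMap A (A ⊗[S₀] R1)))
  haveI : IsIso (𝟙 cD.pt) := inferInstance
  have hY : IsPullback (cD.π.app (op j₀)) (𝟙 cD.pt) (𝟙 (D.obj (op j₀))) (cD.π.app (op j₀)) :=
    IsPullback.of_vert_isIso ⟨(Category.comp_id _).trans (Category.id_comp _).symm⟩
  have hX : IsPullback (Spec.map (CommRingCat.ofHom
      (Algebra.TensorProduct.includeRight : R1 →ₐ[S₀] A ⊗[S₀] R1).toRingHom)) f f₀ (cD.π.app (op j₀)) :=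
    (isPullback_SpecMap_of_isPushout _ _ _ _ (CommRingCat.isPushout_tensorProduct S₀ A R1)).flip
  have hf : Synt.IsSyntomicMor f := by
    rw [← CILib.syntMor_iff]
    exact (HasRingHomProperty.Spec_iff (P := @CILib.SyntMor)).2
      (show CILib.IsSyntomicHom (algebraMap A (A ⊗[S₀] R1)) from CILib.isSyntomicHom_algebraMap.2
        (CILib.isSyntomic_congr (CILib.baseChangeEquiv A F₁).symm h))
  obtain ⟨k, hk⟩ := FlatStage.exists_syntomic D cD (op j₀) f₀ (𝟙 _) hY hX hD hf
  refine ⟨k.left.unop, k.hom.unop, ?_⟩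
  let T : CommRingCat.{u} := Φ.obj k.left.unop
  letI : Algebra S₀ T := (Φ.map k.hom.unop).hom.toAlgebra
  -- the stage is `Spec (T ⊗ R1) ⟶ Spec T`
  let d : D.obj k.left ⟶ D.obj (op j₀) := D.map k.hom
  have hb := AffLim.isPullback_baseChangeMap D (op j₀) f₀ (𝟙 _) k
  haveI : IsIso (pullback.snd (𝟙 (D.obj (op j₀))) d) := inferInstance
  let s := inv (pullback.snd (𝟙 (D.obj (op j₀))) d)
  have hs : s ≫ pullback.fst (𝟙 (D.obj (op j₀))) d = d := by
    rw [IsIso.inv_comp_eq]
    simpa using (pullback.condition (f := 𝟙 (D.obj (op j₀))) (g := d))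
  have hsynt : CILib.SyntMor (pullback.snd f₀ d) := by
    have h1 := (IsPullback.of_hasPullback ((AffLim.baseChangeMap D (op j₀) f₀ (𝟙 _)).app k) s).paste_horiz hb
    have h2 : CILib.SyntMor (pullback.snd ((AffLim.baseChangeMap D (op j₀) f₀ (𝟙 _)).app k) s) :=
      MorphismProperty.pullback_snd _ _ ((CILib.syntMor_iff _).2 hk)
    change IsPullback _ _ f₀ (s ≫ pullback.fst (𝟙 (D.obj (op j₀))) d) at h1
    rw [hs] at h1
    rw [← h1.isoPullback_inv_snd, MorphismProperty.cancel_left_of_respectsIso @CILib.SyntMor]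
    exact h2
  have h3 : IsPullback (Spec.map (CommRingCat.ofHom (Algebra.TensorProduct.includeRight : R1 →ₐ[S₀] T ⊗[S₀] R1).toRingHom))
      (Spec.map (CommRingCat.ofHom (algebraMap T (T ⊗[S₀] R1)))) f₀ d :=
    (isPullback_SpecMap_of_isPushout _ _ _ _ (CommRingCat.isPushout_tensorProduct S₀ T R1)).flip
  have hsynt' : CILib.SyntMor (Spec.map (CommRingCat.ofHom (algebraMap T (T ⊗[S₀] R1)))) := by
    rw [← h3.isoPullback_hom_snd, MorphismProperty.cancel_left_of_respectsIso @CILib.SyntMor]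
    exact hsynt
  have h5 : CILib.IsSyntomicHom (algebraMap T (T ⊗[S₀] R1)) :=
    (HasRingHomProperty.Spec_iff (P := @CILib.SyntMor)).1 hsynt'
  have h6 : Synt.IsSyntomic T (T ⊗[S₀] R1) := CILib.isSyntomicHom_algebraMap.1 h5
  exact CILib.isSyntomic_congr (CILib.baseChangeEquiv T F₁) h6

/-- A syntomic presentation over a ring comes from a finitely generated subring. -/
theorem exists_fg_subring_isSyntomic (A : Type u) [CommRing A] {n c : ℕ} (F : Fin c → MvPolynomial (Fin n) A)
    (h : IsSyntPres A F) :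
    ∃ (T : Subalgebra ℤ A) (_ : T.FG) (FT : Fin c → MvPolynomial (Fin n) T),
      (∀ l, MvPolynomial.map T.val.toRingHom (FT l) = F l) ∧ IsSyntPres T FT := by
  classical
  let AA : CommRingCat.{u} := CommRingCat.of A
  let s₀ : Finset A := Finset.univ.biUnion fun l => (F l).coeffs
  let j₀ : FPModelLib.ZIdx AA := ⟨Algebra.adjoin ℤ (s₀ : Set A), ⟨s₀, rfl⟩⟩
  haveI : IsDirectedOrder (FPModelLib.ZIdx AA) :=
    ⟨fun S T => ⟨⟨S.1 ⊔ T.1, S.2.sup T.2⟩, le_sup_left (a := S.1), le_sup_right (b := T.1)⟩⟩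
  haveI : Nonempty (FPModelLib.ZIdx AA) := ⟨j₀⟩
  haveI : IsFiltered (FPModelLib.ZIdx AA) := CategoryTheory.isFiltered_of_directed_le_nonempty _
  have hF : ∀ l, ∃ q : MvPolynomial (Fin n) ((FPModelLib.zRing AA).obj j₀),
      MvPolynomial.map ((FPModelLib.zCocone AA).ι.app j₀).hom q = F l := fun l => by
    have : F l ∈ Set.range (MvPolynomial.map ((FPModelLib.zCocone AA).ι.app j₀).hom) := by
      rw [MvPolynomial.mem_range_map_iff_coeffs_subset]
      intro a ha
      exact ⟨⟨a, Algebra.subset_adjoin (Finset.mem_biUnion.2 ⟨l, Finset.mem_univ _, ha⟩)⟩, rfl⟩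
    exact this
  choose F₁ hF₁ using hF
  obtain ⟨j, φ, hj⟩ := exists_stage_isSyntPres (FPModelLib.zRing AA) (FPModelLib.zCocone AA)
    (FPModelLib.isColimitZCocone AA) j₀ F₁ (by rw [funext hF₁]; exact h)
  refine ⟨j.1, j.2, _, fun l => ?_, hj⟩
  rw [← hF₁ l]
  exact MvPolynomial.map_map _ _ _

theorem isSyntPres_map {B B' : Type u} [CommRing B] [CommRing B'] (θ : B →+* B') {n c : ℕ}
    (F : Fin c → MvPolynomial (Fin n) B) (h : IsSyntPres B F) :
    IsSyntPres B' fun l => MvPolynomial.map θ (F l) := by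
  letI : Algebra B B' := θ.toAlgebra
  exact CILib.isSyntomic_congr (CILib.baseChangeEquiv B' F) (CILib.isSyntomic_baseChange h B')

variable {ι : Type u} {G : ι → Type u} [∀ i, CommRing (G i)] [∀ i, Algebra R (G i)]
  {A : Type u} [CommRing A] [Algebra R A] {g : ∀ i, G i →ₐ[R] A}

namespace IsAlgSys

/-- A finitely generated subring of the colimit maps to a stage, compatibly with finitely many given data. -/
theorem exists_lift_subring (hS : IsAlgSys g) (T : Subalgebra ℤ A) (hT : T.FG) {n c : ℕ}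
    (F : Fin c → MvPolynomial (Fin n) R) (FT : Fin c → MvPolynomial (Fin n) T)
    (hFT : ∀ l, MvPolynomial.map T.val.toRingHom (FT l) = MvPolynomial.map (algebraMap R A) (F l)) :
    ∃ (j : ι) (θ : T →+* G j),
      ∀ l, MvPolynomial.map θ (FT l) = MvPolynomial.map (algebraMap R (G j)) (F l) := by
  classical
  haveI : Algebra.FiniteType ℤ T := (Subalgebra.fg_iff_finiteType T).1 hT
  obtain ⟨m, π, hπ⟩ := Algebra.FiniteType.iff_quotient_mvPolynomial''.1 ‹Algebra.FiniteType ℤ T›
  obtain ⟨i, x, hx⟩ := hS.exists_lift_fin fun a => ((π (X a) : T) : A)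
  obtain ⟨K, hK⟩ := IsNoetherian.noetherian (RingHom.ker π.toRingHom)
  have hev : ∀ q, g i (MvPolynomial.eval₂Hom (Int.castRingHom (G i)) x q) = ((π q : T) : A) := by
    intro q
    induction q using MvPolynomial.induction_on with
    | C a => simp
    | add a b ha hb => simp only [map_add, ha, hb, Subalgebra.coe_add]
    | mul_X a k ha => simp only [map_mul, ha, MvPolynomial.eval₂Hom_X', hx, Subalgebra.coe_mul]
  obtain ⟨j, ψ, hψ, hkill⟩ := hS.kill_finset i (K.image (MvPolynomial.eval₂Hom (Int.castRingHom (G i)) x))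
    fun a ha => by
      obtain ⟨q, hq, rfl⟩ := Finset.mem_image.1 ha
      rw [hev, show π q = 0 from (hK ▸ Submodule.subset_span hq : q ∈ RingHom.ker π.toRingHom)]
      rfl
  let σ : MvPolynomial (Fin m) ℤ →+* G j := ψ.toRingHom.comp (MvPolynomial.eval₂Hom (Int.castRingHom (G i)) x)
  have hσ : RingHom.ker π.toRingHom ≤ RingHom.ker σ := by
    rw [← hK, Ideal.span_le]
    exact fun q hq => hkill _ (Finset.mem_image_of_mem _ hq)
  let θ : T →+* G j := RingHom.liftOfSurjective π.toRingHom hπ ⟨σ, hσ⟩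
  have hθ : ∀ t, g j (θ t) = (t : A) := fun t => by
    obtain ⟨q, rfl⟩ := hπ t
    rw [show θ (π q) = σ q from RingHom.liftOfRightInverse_comp_apply _ _ _ _ q]
    exact (AlgHom.congr_fun hψ _).trans (hev q)
  obtain ⟨j', ψ', hψ', hkill'⟩ := hS.kill_finset j
    (Finset.univ.biUnion fun l => (MvPolynomial.map θ (FT l) - MvPolynomial.map (algebraMap R (G j)) (F l)).coeffs)
    fun a ha => by
      obtain ⟨l, -, ha⟩ := Finset.mem_biUnion.1 ha
      obtain ⟨d, -, rfl⟩ := MvPolynomial.mem_coeffs_iff.1 ha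
      rw [← AlgHom.coe_toRingHom, ← MvPolynomial.coeff_map, map_sub, MvPolynomial.map_map, MvPolynomial.map_map,
        show (↑(g j) : G j →+* A).comp θ = T.val.toRingHom from RingHom.ext hθ,
        show (↑(g j) : G j →+* A).comp (algebraMap R (G j)) = algebraMap R A from (g j).comp_algebraMap,
        hFT, sub_self, MvPolynomial.coeff_zero]
  refine ⟨j', ψ'.toRingHom.comp θ, fun l => ?_⟩
  have h0 : MvPolynomial.map ψ'.toRingHom
      (MvPolynomial.map θ (FT l) - MvPolynomial.map (algebraMap R (G j)) (F l)) = 0 := MvPolynomial.ext _ _ fun d => by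
    rw [MvPolynomial.coeff_map, MvPolynomial.coeff_zero]
    by_cases hd : d ∈ (MvPolynomial.map θ (FT l) - MvPolynomial.map (algebraMap R (G j)) (F l)).support
    · exact hkill' _ (Finset.mem_biUnion.2 ⟨l, Finset.mem_univ _, MvPolynomial.mem_coeffs_iff.2 ⟨d, hd, rfl⟩⟩)
    · rw [MvPolynomial.notMem_support_iff.1 hd, map_zero]
  rw [map_sub, sub_eq_zero, MvPolynomial.map_map, MvPolynomial.map_map,
    show ψ'.toRingHom.comp (algebraMap R (G j)) = algebraMap R (G j') from ψ'.comp_algebraMap] at h0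
  exact h0

/-- Syntomic descends to a stage. -/
theorem exists_syntomic_baseChange (hS : IsAlgSys g) {C : Type u} [CommRing C] [Algebra R C]
    [Algebra.FinitePresentation R C] (h : Synt.IsSyntomic A (A ⊗[R] C)) :
    ∃ i, Synt.IsSyntomic (G i) (G i ⊗[R] C) := by
  classical
  obtain ⟨n, π, hπ, hker⟩ := Algebra.FinitePresentation.out (R := R) (A := C)
  obtain ⟨c, F, hF⟩ := Submodule.fg_iff_exists_fin_generating_family.1 hker
  let eC : Synt.RelGCIRing R n c F ≃ₐ[R] C :=
    (Ideal.quotientEquivAlgOfEq R (show Ideal.span (Set.range F) = RingHom.ker π.toRingHom from hF)).trans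
      (Ideal.quotientKerAlgEquivOfSurjective hπ)
  have key : ∀ (B : Type u) [CommRing B] [Algebra R B],
      Nonempty (Synt.RelGCIRing B n c (CILib.mapF B F) ≃ₐ[B] B ⊗[R] C) := fun B _ _ =>
    ⟨(CILib.baseChangeEquiv B F).symm.trans (Algebra.TensorProduct.congr AlgEquiv.refl eC)⟩
  obtain ⟨eA⟩ := key A
  obtain ⟨T, hT, FT, hFT, hsynt⟩ := exists_fg_subring_isSyntomic A (CILib.mapF A F)
    (CILib.isSyntomic_congr eA.symm h)
  obtain ⟨j, θ, hθ⟩ := hS.exists_lift_subring T hT F FT hFT
  refine ⟨j, ?_⟩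
  obtain ⟨ej⟩ := key (G j)
  refine CILib.isSyntomic_congr ej ?_
  have h2 := isSyntPres_map θ FT hsynt
  rw [funext hθ] at h2
  exact h2

end IsAlgSys

end Groth.Agent.AlgSysLib
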